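import Cfsg.Agent.TwoRank.Basic
import Cfsg.Agent.OddOrder.BG4.Basic
import Mathlib.GroupTheory.Transfer

/-!
# Sylow `2`-subgroups inside `GL₃` of odd characteristic containing an elementary group of order 8

Such a subgroup contains `-1`, and if it is nonabelian transfer of the determinant shows that the
group has a subgroup of index two.
-/

set_option autoImplicit false
set_option linter.unusedSectionVars false
set_option linter.style.haveILetI false

open MulAction Subgroup
open scoped commutatorElement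

namespace CfsgLib.GLThreeTwo

variable {G : Type*} [Group G] [Finite G]

/-- Transfer of a homomorphism detecting a central involution. -/
theorem exists_index_two_of_central (S : Sylow 2 G) {A : Type*} [CommGroup A] [Finite A]
    (hA : IsPGroup 2 A) (χ : (S : Subgroup G) →* A) {ε : A} (hε : ε ≠ 1) (hε2 : ε ^ 2 = 1)
    (hval : ∀ x : (S : Subgroup G), x ^ 2 = 1 → χ x = 1 ∨ χ x = ε)
    {z : G} (hzS : z ∈ (S : Subgroup G)) (hz2 : z ^ 2 = 1)
    (hzc : ∀ x ∈ (S : Subgroup G), x * z = z * x)
    (hnorm : ∀ g ∈ normalizer ((S : Subgroup G) : Set G), ∀ h : g⁻¹ * z * g ∈ (S : Subgroup G),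
      χ ⟨g⁻¹ * z * g, h⟩ = ε) :
    ∃ H : Subgroup G, H.index = 2 := by
  classical
  haveI : Fact (Nat.Prime 2) := ⟨Nat.prime_two⟩
  letI := (S : Subgroup G).fintypeQuotientOfFiniteIndex
  set V : G →* A := MonoidHom.transfer χ with hV
  -- the cosets on which `z` is seen as `ε`
  let Φ : Set (G ⧸ (S : Subgroup G)) :=
    {c | ∃ h : c.out⁻¹ * z * c.out ∈ (S : Subgroup G), χ ⟨_, h⟩ = ε}
  have hval' : ∀ (g g' : G), (g : G ⧸ (S : Subgroup G)) = (g' : G ⧸ (S : Subgroup G)) →
      (∃ h : g⁻¹ * z * g ∈ (S : Subgroup G), χ ⟨_, h⟩ = ε) →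
      ∃ h : g'⁻¹ * z * g' ∈ (S : Subgroup G), χ ⟨_, h⟩ = ε := by
    intro g g' hgg ⟨h, he⟩
    rw [QuotientGroup.eq] at hgg
    obtain ⟨s, hs, rfl⟩ : ∃ s ∈ (S : Subgroup G), g' = g * s := ⟨g⁻¹ * g', hgg, by group⟩
    have e : (g * s)⁻¹ * z * (g * s) = s⁻¹ * (g⁻¹ * z * g) * s := by group
    have hm : (g * s)⁻¹ * z * (g * s) ∈ (S : Subgroup G) := by
      rw [e]; exact mul_mem (mul_mem (inv_mem hs) h) hs
    refine ⟨hm, ?_⟩
    rw [show (⟨_, hm⟩ : (S : Subgroup G)) = ⟨s, hs⟩⁻¹ * ⟨g⁻¹ * z * g, h⟩ * ⟨s, hs⟩ from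
      Subtype.ext e, map_mul, map_mul, map_inv, he, mul_comm (χ ⟨s, hs⟩)⁻¹ ε, inv_mul_cancel_right]
  have hmemΦ : ∀ g : G, (g : G ⧸ (S : Subgroup G)) ∈ Φ ↔
      ∃ h : g⁻¹ * z * g ∈ (S : Subgroup G), χ ⟨_, h⟩ = ε := fun g =>
    ⟨hval' _ _ (QuotientGroup.out_eq' _), hval' _ _ (QuotientGroup.out_eq' _).symm⟩
  have hfix : ∀ c : G ⧸ (S : Subgroup G), c.out⁻¹ * z * c.out ∈ (S : Subgroup G) ↔ z • c = c := by
    intro c
    induction c using QuotientGroup.induction_on with
    | _ g =>
      conv_rhs => rw [← QuotientGroup.out_eq' (g : G ⧸ (S : Subgroup G))]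
      show _ ↔ ((z * _ : G) : G ⧸ (S : Subgroup G)) = _
      rw [QuotientGroup.eq]
      conv_rhs => rw [← inv_mem_iff]
      simp [mul_assoc]
  -- `S` permutes `Φ`, and its fixed points are all the fixed points of `S`
  have hodd : Odd (Nat.card Φ) := by
    let act : MulAction (S : Subgroup G) Φ :=
      { smul := fun s c => ⟨(s : G) • c.1, by
          obtain ⟨g, hg⟩ := QuotientGroup.mk_surjective c.1
          rw [← hg]
          show (((s : G) * g : G) : G ⧸ (S : Subgroup G)) ∈ Φ
          rw [hmemΦ]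
          obtain ⟨h, he⟩ := (hmemΦ g).mp (hg ▸ c.2)
          have e : ((s : G) * g)⁻¹ * z * ((s : G) * g) = g⁻¹ * z * g := by
            calc ((s : G) * g)⁻¹ * z * ((s : G) * g) = g⁻¹ * ((s : G)⁻¹ * (z * (s : G))) * g := by group
              _ = g⁻¹ * ((s : G)⁻¹ * ((s : G) * z)) * g := by rw [← hzc s s.2]
              _ = g⁻¹ * z * g := by group
          refine ⟨e.symm ▸ h, ?_⟩
          rw [← he]
          exact congrArg χ (Subtype.ext e)⟩
        one_smul := fun c => Subtype.ext (one_smul G c.1)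
        mul_smul := fun s t c => Subtype.ext (mul_smul (s : G) (t : G) c.1) }
    letI := act
    have h1 := S.2.card_modEq_card_fixedPoints Φ
    have h2 := S.2.card_modEq_card_fixedPoints (G ⧸ (S : Subgroup G))
    have h3 : Nat.card (fixedPoints (S : Subgroup G) Φ) =
        Nat.card (fixedPoints (S : Subgroup G) (G ⧸ (S : Subgroup G))) := by
      refine Nat.card_congr
        { toFun := fun c => ⟨c.1.1, fun s => congrArg Subtype.val (c.2 s)⟩
          invFun := fun c => ⟨⟨c.1, ?_⟩, fun s => Subtype.ext (c.2 s)⟩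
          left_inv := fun c => rfl
          right_inv := fun c => rfl }
      obtain ⟨g, hg⟩ := QuotientGroup.mk_surjective c.1
      rw [← hg, hmemΦ]
      have hle : ∀ s ∈ (S : Subgroup G), g⁻¹ * s * g ∈ (S : Subgroup G) := by
        intro s hs
        have := c.2 ⟨s⁻¹, inv_mem hs⟩
        rw [← hg] at this
        change ((s⁻¹ * g : G) : G ⧸ (S : Subgroup G)) = _ at this
        rw [QuotientGroup.eq] at this
        simpa [mul_assoc] using this
      have hgN : g⁻¹ ∈ normalizer ((S : Subgroup G) : Set G) := by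
        rw [mem_normalizer_iff_map_conj_eq]
        refine eq_of_le_of_card_ge ?_ (card_map_of_injective
          (f := (MulAut.conj g⁻¹).toMonoidHom) (MulAut.conj g⁻¹).injective).ge
        rintro _ ⟨s, hs, rfl⟩
        simpa using hle s hs
      exact ⟨hle z hzS, hnorm g (by simpa using inv_mem hgN) _⟩
    have hidx : ¬ 2 ∣ Nat.card (G ⧸ (S : Subgroup G)) := by
      rw [← index_eq_card]; exact S.not_dvd_index
    rw [Nat.ModEq] at h1 h2
    rw [Nat.odd_iff]
    omega
  have hVz : V z = ε := by
    rw [hV, MonoidHom.transfer_eq_prod_quotient_orbitRel_zpowers_quot]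
    have key : ∀ q : Quotient (orbitRel (zpowers z) (G ⧸ (S : Subgroup G))),
        χ ⟨q.out.out⁻¹ * z ^ Function.minimalPeriod (z • ·) q.out * q.out.out,
          QuotientGroup.out_conj_pow_minimalPeriod_mem (S : Subgroup G) z q.out⟩ =
        if q.out ∈ Φ then ε else 1 := by
      intro q
      have hper : Function.IsPeriodicPt (z • ·) 2 q.out := by
        show (fun y => z • y)^[2] q.out = q.out
        rw [smul_iterate, hz2]; exact one_smul G q.out
      suffices h : ∀ r : ℕ, Function.minimalPeriod (z • ·) q.out = r →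
          ∀ hmem : q.out.out⁻¹ * z ^ r * q.out.out ∈ (S : Subgroup G),
          χ ⟨_, hmem⟩ = if q.out ∈ Φ then ε else 1 from h _ rfl _
      intro r hr hmem
      have hr2 : r ∣ 2 := hr ▸ hper.minimalPeriod_dvd
      rcases (Nat.dvd_prime Nat.prime_two).mp hr2 with rfl | rfl
      · have hm : q.out.out⁻¹ * z * q.out.out ∈ (S : Subgroup G) := by simpa using hmem
        have hsq : (⟨_, hm⟩ : (S : Subgroup G)) ^ 2 = 1 := by
          refine Subtype.ext ?_
          show (q.out.out⁻¹ * z * q.out.out) ^ 2 = 1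
          rw [pow_two]
          calc q.out.out⁻¹ * z * q.out.out * (q.out.out⁻¹ * z * q.out.out)
              = q.out.out⁻¹ * (z ^ 2) * q.out.out := by rw [pow_two]; group
            _ = 1 := by rw [hz2]; group
        rw [show (⟨_, hmem⟩ : (S : Subgroup G)) = ⟨_, hm⟩ from Subtype.ext (by simp)]
        split_ifs with hΦ
        · obtain ⟨_, he⟩ := hΦ
          exact he
        · exact (hval _ hsq).resolve_right fun he => hΦ ⟨hm, he⟩
      · rw [show (⟨_, hmem⟩ : (S : Subgroup G)) = 1 from Subtype.ext (by simp [hz2]), map_one,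
          if_neg]
        rintro ⟨hm, -⟩
        have h1 : Function.IsPeriodicPt (z • ·) 1 q.out := (hfix _).mp hm
        have := h1.minimalPeriod_dvd
        rw [hr] at this
        norm_num at this
    rw [Fintype.prod_congr _ _ key, Finset.prod_ite, Finset.prod_const, Finset.prod_const_one,
      mul_one]
    have hcard : (Finset.univ.filter fun q : Quotient (orbitRel (zpowers z) (G ⧸ (S : Subgroup G))) =>
        q.out ∈ Φ).card = Nat.card Φ := by
      rw [← Nat.card_eq_finsetCard]
      refine Nat.card_eq_of_bijective (fun q => (⟨q.1.out, (Finset.mem_filter.mp q.2).2⟩ : Φ))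
        ⟨fun q q' h => ?_, fun c => ?_⟩
      · have h' : q.1.out = q'.1.out := congrArg Subtype.val h
        exact Subtype.ext (by rw [← q.1.out_eq, ← q'.1.out_eq, h'])
      · obtain ⟨c, hc⟩ := c
        obtain ⟨hm, -⟩ := id hc
        have hzc' : z • c = c := (hfix c).mp hm
        have hout : (Quotient.mk (orbitRel (zpowers z) (G ⧸ (S : Subgroup G))) c).out = c := by
          obtain ⟨⟨w, hw⟩, hwc⟩ := Quotient.mk_out
            (s := orbitRel (zpowers z) (G ⧸ (S : Subgroup G))) c
          rw [← hwc]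
          exact (zpowers_le.mpr (show z ∈ stabilizer G c from hzc')) hw
        exact ⟨⟨_, Finset.mem_filter.mpr ⟨Finset.mem_univ _, hout.symm ▸ hc⟩⟩, Subtype.ext hout⟩
    rw [hcard]
    obtain ⟨k, hk⟩ := hodd
    rw [hk, pow_succ, pow_mul, hε2, one_pow, one_mul]
  have hne : V.range ≠ ⊥ := fun h =>
    hε (mem_bot.mp (h ▸ (⟨z, hVz⟩ : ε ∈ V.range)))
  haveI : Nontrivial V.range := (nontrivial_iff_ne_bot _).mpr hne
  obtain ⟨k, hk0, hk⟩ := (hA.to_subgroup V.range).nontrivial_iff_card.mp inferInstance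
  obtain ⟨K, hK⟩ := Sylow.exists_subgroup_card_pow_prime 2 (n := k - 1) (G := V.range)
    (by rw [hk]; exact pow_dvd_pow 2 (Nat.sub_le k 1))
  refine ⟨K.comap V.rangeRestrict, ?_⟩
  rw [index_comap_of_surjective _ V.rangeRestrict_surjective]
  have h := card_mul_index K
  rw [hK, hk, show 2 ^ k = 2 ^ (k - 1) * 2 by rw [← pow_succ, Nat.sub_add_cancel hk0]] at h
  exact mul_left_cancel₀ (pow_ne_zero _ two_ne_zero) h

section Matrices

open Matrix

variable {F : Type*} [Field F] {X : Type*} [Group X] [Finite X]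

/-- An elementary abelian subgroup of order `8` of `GL₃` contains `-1` and has commutative
centralizer. -/
theorem elementary_eight (h2 : (2 : F) ≠ 0) (M : X →* Matrix (Fin 3) (Fin 3) F)
    (hM : Function.Injective M) (A : Subgroup X) (hc : IsMulCommutative A)
    (he : ∀ a ∈ A, a ^ 2 = 1) (h8 : Nat.card A = 8) :
    (∃ a ∈ A, M a = -1) ∧
      ∀ x ∈ centralizer (A : Set X), ∀ y ∈ centralizer (A : Set X), x * y = y * x := by
  classical
  obtain ⟨b, hb⟩ := TwoRank.exists_eigenbasis h2 M A hc he
  let sgn : A → (Fin 3 → Bool) := fun a i => TwoRank.pattern M A b i a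
  have hinj : Function.Injective sgn := fun a c h =>
    TwoRank.eq_of_pattern hM hb a c (congrFun h)
  have hbij : Function.Bijective sgn := by
    refine (Nat.bijective_iff_injective_and_card sgn).mpr ⟨hinj, ?_⟩
    rw [h8, Nat.card_fun, Nat.card_eq_fintype_card, Nat.card_eq_fintype_card]
    simp
  have hne : (1 : F) ≠ -1 := fun h => h2 (by linear_combination h)
  constructor
  · obtain ⟨a, ha⟩ := hbij.2 fun _ => false
    refine ⟨a, a.2, Matrix.toLin'.injective (b.ext fun i => ?_)⟩
    rw [Matrix.toLin'_apply, Matrix.toLin'_apply, TwoRank.mulVec_eq hb,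
      show TwoRank.pattern M A b i a = false from congrFun ha i]
    simp [Matrix.neg_mulVec]
  · -- each element of the centralizer is diagonal
    have hdiag : ∀ x ∈ centralizer (A : Set X), ∀ i, ∃ c : F, M x *ᵥ b i = c • b i := by
      intro x hx i
      obtain ⟨a, ha⟩ := hbij.2 fun j => decide (j = i)
      have hax : M a.1 * M x = M x * M a.1 := by
        rw [← map_mul, ← map_mul, mem_centralizer_iff.mp hx a.1 a.2]
      have hpat : ∀ j, TwoRank.pattern M A b j a = decide (j = i) := congrFun ha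
      have hai : M a.1 *ᵥ b i = b i := by
        rw [TwoRank.mulVec_eq hb, hpat i]; simp
      set w := M x *ᵥ b i with hw
      have haw : M a.1 *ᵥ w = w := by
        rw [hw, Matrix.mulVec_mulVec, hax, ← Matrix.mulVec_mulVec, hai]
      refine ⟨b.repr w i, ?_⟩
      have hexp := b.sum_repr w
      have hzero : ∀ j, j ≠ i → b.repr w j = 0 := by
        intro j hj
        have hL : ∀ v, b.repr (M a.1 *ᵥ v) j = -(b.repr v j) := by
          intro v
          have h1 : ((b.coord j).comp (Matrix.toLin' (M a.1))) = -(b.coord j) := by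
            refine b.ext fun k => ?_
            simp only [LinearMap.comp_apply, Matrix.toLin'_apply, LinearMap.neg_apply,
              Module.Basis.coord_apply]
            rw [TwoRank.mulVec_eq hb, map_smul, Module.Basis.repr_self, hpat k]
            rcases eq_or_ne k j with rfl | hkj
            · simp [hj]
            · rw [Finsupp.smul_single, Finsupp.single_eq_of_ne hkj.symm,
                Finsupp.single_eq_of_ne hkj.symm, neg_zero]
          exact LinearMap.congr_fun h1 v
        have h := hL w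
        rw [haw] at h
        have : (2 : F) * b.repr w j = 0 := by linear_combination h
        exact (mul_eq_zero.mp this).resolve_left h2
      conv_lhs => rw [← hexp]
      exact Finset.sum_eq_single i (fun j _ hj => by rw [hzero j hj, zero_smul]) (by simp)
    intro x hx y hy
    refine hM (Matrix.toLin'.injective (b.ext fun i => ?_))
    obtain ⟨c, hc'⟩ := hdiag x hx i
    obtain ⟨d, hd⟩ := hdiag y hy i
    rw [Matrix.toLin'_apply, Matrix.toLin'_apply, map_mul, map_mul, ← Matrix.mulVec_mulVec, hd,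
      Matrix.mulVec_smul, hc', ← Matrix.mulVec_mulVec, hc', Matrix.mulVec_smul, hd, smul_comm]

/-- A nonabelian `2`-group in `GL₃` containing an elementary abelian subgroup of order `8`: a
central involution is mapped to `-1` by the determinant, and so is each of its images under
automorphisms. -/
theorem central_involution (h2 : (2 : F) ≠ 0) (hX : IsPGroup 2 X) (f : X →* GL (Fin 3) F)
    (hf : Function.Injective f) (A : Subgroup X) (hc : IsMulCommutative A)
    (he : ∀ a ∈ A, a ^ 2 = 1) (h8 : Nat.card A = 8) (hna : ¬ IsMulCommutative X) :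
    ∃ z : X, z ^ 2 = 1 ∧ (∀ x, x * z = z * x) ∧
      ∀ σ : MulAut X, Matrix.GeneralLinearGroup.det (f (σ z)) = -1 := by
  classical
  haveI : Fact (Nat.Prime 2) := ⟨Nat.prime_two⟩
  set M : X →* Matrix (Fin 3) (Fin 3) F := (Units.coeHom _).comp f with hMdef
  have hM : Function.Injective M := Units.val_injective.comp hf
  obtain ⟨⟨z, hzA, hz⟩, -⟩ := elementary_eight h2 M hM A hc he h8
  have hzc : ∀ x, x * z = z * x := fun x => hM (by rw [map_mul, map_mul, hz]; simp)
  set χ := Matrix.GeneralLinearGroup.det.comp f with hχdef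
  have hχz : χ z = -1 := by
    apply Units.ext
    show (M z).det = _
    rw [hz, Matrix.det_neg, Matrix.det_one]
    simp [Odd.neg_one_pow (n := 3) ⟨1, rfl⟩]
  have hm1 : (-1 : Fˣ) ≠ 1 := fun h =>
    h2 (by
      have h' : (-1 : F) = 1 := by simpa using congrArg Units.val h
      linear_combination -h')
  have hcomm : commutator X ≤ χ.ker := Abelianization.commutator_subset_ker χ
  have hne : commutator X ≠ ⊥ := fun h => hna ⟨⟨fun a b => by
    have : ⁅a, b⁆ ∈ commutator X := commutator_mem_commutator (mem_top a) (mem_top b)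
    rw [h, mem_bot] at this
    exact commutatorElement_eq_one_iff_mul_comm.mp this⟩⟩
  obtain ⟨t, htD, htc, hto⟩ := CfsgLib.OddOrder.BG4.exists_central_orderOf_prime hX hne
  have ht2 : t ^ 2 = 1 := hto ▸ pow_orderOf_eq_one t
  -- the central involutions form a four-group
  let Om : Subgroup X :=
    { carrier := {x | x ∈ center X ∧ x ^ 2 = 1}
      one_mem' := ⟨one_mem _, one_pow _⟩
      mul_mem' := fun {a b} ha hb => ⟨mul_mem ha.1 hb.1, by
        rw [(show Commute a b from (mem_center_iff.mp ha.1 b).symm).mul_pow, ha.2, hb.2, one_mul]⟩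
      inv_mem' := fun {a} ha => ⟨inv_mem ha.1, by rw [inv_pow, ha.2, inv_one]⟩ }
  have hOc : IsMulCommutative Om :=
    ⟨⟨fun a b => Subtype.ext ((mem_center_iff.mp b.2.1 a))⟩⟩
  have hO4 : Nat.card Om ≤ 4 := by
    by_contra hlt
    obtain ⟨j, hj⟩ := IsPGroup.iff_card.mp (hX.to_subgroup Om)
    have hj3 : 3 ≤ j := by
      by_contra hh
      have : 2 ^ j ≤ 2 ^ 2 := Nat.pow_le_pow_right two_pos (by omega)
      omega
    obtain ⟨B, hB⟩ := Sylow.exists_subgroup_card_pow_prime 2 (n := 3) (G := Om)
      (by rw [hj]; exact pow_dvd_pow 2 hj3)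
    obtain ⟨-, hcent⟩ := elementary_eight h2 M hM (B.map Om.subtype)
      ⟨⟨by rintro ⟨_, a, ha, rfl⟩ ⟨_, b, hb, rfl⟩
           exact Subtype.ext (congrArg (fun y : Om => (y : X)) (hOc.is_comm.comm a b))⟩⟩
      (by rintro _ ⟨a, ha, rfl⟩; exact a.2.2) (by rw [card_map_of_injective Om.subtype_injective, hB]; norm_num)
    have htop : ∀ x, x ∈ centralizer ((B.map Om.subtype : Subgroup X) : Set X) := fun x =>
      mem_centralizer_iff.mpr fun y hy => by
        obtain ⟨a, -, rfl⟩ := hy
        exact (mem_center_iff.mp a.2.1 x).symm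
    exact hna ⟨⟨fun a b => hcent a (htop a) b (htop b)⟩⟩
  refine ⟨z, he z hzA, hzc, fun σ => ?_⟩
  show χ (σ z) = -1
  have hzD : z ∉ commutator X := fun h => hm1 (hχz ▸ (hcomm h : χ z = 1))
  have hσ : σ z ∈ Om := ⟨by
    rw [mem_center_iff]
    intro x
    obtain ⟨x', rfl⟩ := σ.surjective x
    rw [← map_mul, ← map_mul, hzc x'], by rw [← map_pow, he z hzA, map_one]⟩
  have hσD : σ z ∉ commutator X := fun h => hzD (by
    have hfix : (commutator X).comap σ.toMonoidHom = commutator X :=
      Subgroup.Characteristic.fixed inferInstance σ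
    exact hfix.le h)
  have hzO : z ∈ Om := ⟨mem_center_iff.mpr hzc, he z hzA⟩
  have htO : t ∈ Om := ⟨htc, ht2⟩
  let v : Fin 4 → Om := ![1, ⟨t, htO⟩, ⟨z, hzO⟩, ⟨t, htO⟩ * ⟨z, hzO⟩]
  have hχt : χ t = 1 := hcomm htD
  have ht1 : t ≠ 1 := fun h => by simp [h] at hto
  have hvinj : Function.Injective v := by
    intro i j h
    have hc' := congrArg (fun y : Om => χ (y : X)) h
    have hv := congrArg (fun y : Om => (y : X)) h
    fin_cases i <;> fin_cases j <;> simp [v, hχt, hχz, hm1, hm1.symm, ht1, Ne.symm ht1] at hc' hv ⊢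
  have hvbij : Function.Bijective v :=
    (Nat.bijective_iff_injective_and_card v).mpr ⟨hvinj, le_antisymm
      (Nat.card_le_card_of_injective v hvinj) (by simpa using hO4)⟩
  obtain ⟨i, hi⟩ := hvbij.2 ⟨σ z, hσ⟩
  have hi' := congrArg (fun y : Om => (y : X)) hi
  fin_cases i <;> simp [v] at hi'
  · exact absurd (hi' ▸ one_mem (commutator X)) hσD
  · exact absurd (hi' ▸ htD) hσD
  · rw [← hi', hχz]
  · rw [← hi', map_mul, hχt, hχz, one_mul]

end Matrices

end CfsgLib.GLThreeTwo
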